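import Groth.Agent.AlgStLib.SepUnivClosed
import Groth.Agent.AlgStLib.Source
import Groth.Agent.AlgStLib.Diag
import Groth.Agent.AlgSpPts.Sep
import Groth.Agent.GerbFlat.Main

/-!
# Separatedness and properness descend along universally closed surjections
-/

set_option backward.isDefEq.respectTransparency false
set_option backward.isDefEq.respectTransparency.types false
set_option autoImplicit false

universe u

open CategoryTheory CategoryTheory.Functor CategoryTheory.Limits AlgebraicGeometry Opposite AlgSp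
open Groth.Agent.FibBase Groth.Agent.AlgSpLib Groth.Agent.AlgStLib

namespace Groth.Agent.SepDesc49

variable {S : Scheme.{u}} {A B C : Sp S}

theorem univClosed_cancel (hA : IsAlgSpace A) (hB : IsAlgSpace B) (hC : IsAlgSpace C) {a : A ⟶ B} {b : B ⟶ C}
    (ha : IsSurjectiveMor a) (hab : IsUnivClosedMor (a ≫ b)) : IsUnivClosedMor b := by
  intro Z Z' hZ g fst snd sq
  have hZ' : IsAlgSpace Z' := isAlgSpace_of_isPullback sq hB hZ hC
  have sqA := IsPullback.of_hasPullback a fst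
  have hPB : IsAlgSpace (pullback a fst) := isAlgSpace_pullback hA hZ' hB a fst
  have hs : IsSurjectiveMor (pullback.snd a fst) :=
    stableBC_isSurjectiveMor hA hB hPB hZ' a fst (pullback.snd a fst) (pullback.fst a fst) sqA ha
  have hcl : IsClosedMor (pullback.snd a fst ≫ snd) :=
    hab hZ g _ _ (sqA.paste_vert sq)
  intro K hK
  have h1 := hcl _ (hK.preimage (Points.continuous_map (pullback.snd a fst)))
  have e : Points.map (pullback.snd a fst ≫ snd) =
      Points.map snd ∘ Points.map (pullback.snd a fst) := funext (Points.map_comp _ _)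
  rwa [e, Set.image_comp, Set.image_preimage_eq _ hs] at h1

theorem separated_cancel (hA : IsAlgSpace A) (hB : IsAlgSpace B) (hC : IsAlgSpace C) {a : A ⟶ B} {b : B ⟶ C}
    (ha : IsSurjectiveMor a) (ha' : IsUnivClosedMor a) (hab : IsSeparatedMor (a ≫ b)) : IsSeparatedMor b := by
  have hAA : IsAlgSpace (pullback (a ≫ b) (a ≫ b)) := isAlgSpace_pullback hA hA hC _ _
  have hAB : IsAlgSpace (pullback (a ≫ b) b) := isAlgSpace_pullback hA hB hC _ _
  have hBB : IsAlgSpace (pullback b b) := isAlgSpace_pullback hB hB hC _ _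
  let p₁ : pullback (a ≫ b) (a ≫ b) ⟶ pullback (a ≫ b) b :=
    pullback.lift (pullback.fst _ _) (pullback.snd _ _ ≫ a) (by rw [pullback.condition, Category.assoc])
  let p₂ : pullback (a ≫ b) b ⟶ pullback b b :=
    pullback.lift (pullback.fst _ _ ≫ a) (pullback.snd _ _) (by rw [Category.assoc, pullback.condition])
  have sq₁ : IsPullback (pullback.snd (a ≫ b) (a ≫ b)) p₁ a (pullback.snd (a ≫ b) b) := by
    refine IsPullback.of_bot ?_ (pullback.lift_snd _ _ _).symm (IsPullback.of_hasPullback (a ≫ b) b).flip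
    rw [pullback.lift_fst]
    exact (IsPullback.of_hasPullback (a ≫ b) (a ≫ b)).flip
  have sq₂ : IsPullback (pullback.fst (a ≫ b) b) p₂ a (pullback.fst b b) := by
    refine IsPullback.of_bot ?_ (pullback.lift_fst _ _ _).symm (IsPullback.of_hasPullback b b)
    rw [pullback.lift_snd]
    exact IsPullback.of_hasPullback (a ≫ b) b
  have hp₁ : IsUnivClosedMor p₁ := Groth.Agent.AlgSpPts.isUnivClosedMor_of_isPullback sq₁ ha'
  have hp₂ : IsUnivClosedMor p₂ := Groth.Agent.AlgSpPts.isUnivClosedMor_of_isPullback sq₂ ha'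
  have hd : IsUnivClosedMor (pullback.diagonal (a ≫ b)) := (isUnivClosedMor_diagonal_iff hA hC _).2 hab
  have e : a ≫ pullback.diagonal b = pullback.diagonal (a ≫ b) ≫ p₁ ≫ p₂ := by
    apply pullback.hom_ext <;> simp [p₁, p₂]
  refine (isUnivClosedMor_diagonal_iff hB hC b).1 (univClosed_cancel hA hB hBB ha ?_)
  rw [e]
  exact Groth.Agent.AlgSpPts.isUnivClosedMor_comp hAA hBB hd
    (Groth.Agent.AlgSpPts.isUnivClosedMor_comp hAB hBB hp₁ hp₂)

variable {𝒳 𝒴 𝒵 : AlgSt.Cat S} {P Q : MorphismProperty (Sp S)}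

/-- A property descends along a representable cover of the source if it does so for spaces. -/
theorem of_precomp (hPb : StableBC P) (hQb : StableBC Q)
    (hQl : ∀ {V F : Sp S}, IsAlgSpace V → IsAlgSpace F → ∀ (c : V ⟶ F), RepBySpWith Q c.hom → Q c)
    (hsrc : ∀ {V F G : Sp S}, IsAlgSpace V → IsAlgSpace F → IsAlgSpace G → ∀ (c : V ⟶ F) (b : F ⟶ G),
      Q c → P (c ≫ b) → P b)
    (h𝒳 : FibCat.IsFibGrpd 𝒳.p) (h𝒴 : FibCat.IsFibGrpd 𝒴.p) {x : 𝒳 ⥤ᵇ 𝒴} {y : 𝒴 ⥤ᵇ 𝒵}
    (hy : AlgSt.RepByAlgSp1 y) (hx : AlgSt.RepByAlgSpWith Q x)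
    (h : AlgSt.RepByAlgSpWith P (BasedFunctor.comp x y)) : AlgSt.RepByAlgSpWith P y := by
  intro U z
  obtain ⟨F, e, he⟩ := hy U z
  refine ⟨F, e, he, ?_⟩
  let K : AlgSt.ofSp F.obj ⥤ᵇ 𝒴 := BasedFunctor.comp e (FibCat.fpSnd z y)
  obtain ⟨V, c, e', he', ⟨i⟩⟩ := exists_space_of_overSpace F.property
    (fp_isFibGrpd (Stk.isFibGrpd_ofPsh _) h𝒳 h𝒴) (FibCat.fpFst K x)
    (repByAlgSp1_fpFst K (repByAlgSp1_of_repByAlgSpWith hx))
  let k := fpMap (F := FibCat.fpSnd z y) (G := x) (F' := K) (G' := x) (a := e) (b := BasedFunctor.id _)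
    (c := BasedFunctor.id _) (Iso.refl _) (Iso.refl _)
  have hk : FibCat.IsEquivOver k := fpMap_isEquivOver _ _ he isEquivOver_id
  let E := BasedFunctor.comp e' (BasedFunctor.comp k (pasteHor z x y))
  have hP := ((show RepOver P (FibCat.fpFst z (BasedFunctor.comp x y)) from h U z).property_of_stableBC hPb E
    (isEquivOver_comp he' (isEquivOver_comp hk (pasteHor_isEquivOver z x y)))).2
  let j : BasedFunctor.comp E (FibCat.fpFst z (BasedFunctor.comp x y)) ≅
      BasedFunctor.comp (AlgSt.ofSpMap c) (BasedFunctor.comp e (FibCat.fpFst z y)) :=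
    whiskerRightIso i (BasedFunctor.comp e (FibCat.fpFst z y))
  rw [spMapOfOver_congr j, spMapOfOver_comp, spHom_ofSpMap] at hP
  exact hsrc V.property F.property (IsAlgSpace.yon_obj U) c _ (hQl V.property F.property c
    (repBySpWith_of_repByAlgSpWith (FibCat.fpFst K x) e' hQb he' (repByAlgSpWith_fpFst K hx) i)) hP

theorem stableBC_inf (hP : StableBC P) (hQ : StableBC Q) : StableBC (P ⊓ Q) :=
  fun _ _ _ _ hF hG hF' hG' a g a' g' sq h =>
    ⟨hP hF hG hF' hG' a g a' g' sq h.1, hQ hF hG hF' hG' a g a' g' sq h.2⟩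

theorem diag_surjective_of_univInjective (h𝒳 : AlgSt.IsAlgStack Scheme.fppfPrecoverage 𝒳) {f : 𝒳 ⥤ᵇ 𝒴}
    (hf : AlgSt.IsUnivInjective Scheme.fppfPrecoverage f) : AlgSt.IsSurjective (FibCat.diag f) := fun w => by
  refine ⟨AlgSt.Points.map (FibCat.fpFst f f) w, hf 𝒳 h𝒳 f ?_⟩
  rw [← pts_map_comp]
  exact (pts_map_congr (Iso.refl (BasedFunctor.id 𝒳)) _).trans (pts_map_id _)

theorem isSeparatedMor_of_comp (h𝒳 : AlgSt.IsAlgStack Scheme.fppfPrecoverage 𝒳)
    (h𝒴 : AlgSt.IsAlgStack Scheme.fppfPrecoverage 𝒴) (h𝒵 : AlgSt.IsAlgStack Scheme.fppfPrecoverage 𝒵)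
    {f : 𝒳 ⥤ᵇ 𝒴} {g : 𝒴 ⥤ᵇ 𝒵} (hes : LocEssSurj f)
    (hf₄ : AlgSt.IsUnivInjective Scheme.fppfPrecoverage f)
    (hf₅ : AlgSt.RepByAlgSpWith AlgSp.IsUnivClosedMor (FibCat.diag f))
    (hh : AlgSt.IsSeparatedMor (BasedFunctor.comp f g)) : AlgSt.IsSeparatedMor g := by
  have hΔg := repByAlgSp1_diag h𝒴.diag h𝒵.diag g
  have hΔf := repByAlgSp1_of_repByAlgSpWith hf₅
  have hfp := GerbFlat.isAlgStack_fp_self h𝒳 h𝒴 f
  have hsd : AlgSt.RepByAlgSpWith IsSurjectiveMor (FibCat.diag f) :=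
    repByAlgSpWith_surjective_of_isSurjective h𝒳.isStack.1 hfp.isStack.1 hΔf
      (diag_surjective_of_univInjective h𝒳 hf₄)
  have hQ : AlgSt.RepByAlgSpWith (IsSurjectiveMor ⊓ IsUnivClosedMor) (FibCat.diag f) :=
    repByAlgSpWith_and stableBC_isSurjectiveMor hsd hf₅
  have hw : AlgSt.RepByAlgSp1 (weaken f f g) :=
    repByAlgSp1_iff_top.2 (repByAlgSpWith_weaken f f g (repByAlgSp1_iff_top.1 hΔg))
  have hQl : ∀ {V F : Sp S}, IsAlgSpace V → IsAlgSpace F → ∀ (c : V ⟶ F),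
      RepBySpWith (IsSurjectiveMor ⊓ IsUnivClosedMor) c.hom → (IsSurjectiveMor ⊓ IsUnivClosedMor) c :=
    fun hV hF c hc => ⟨isSurjectiveMor_of_repBySpWith hF c (fun _ ξ _ fst snd sq => (hc ξ fst snd sq).imp fun _ h => ⟨h.1, h.2.1⟩),
      property_of_repBySpWith (isLocalOnBase_fppf_of_fpqc isLocalOnBase_fpqc_isUnivClosedMor) hV hF
        (fun _ ξ _ fst snd sq => (hc ξ fst snd sq).imp fun _ h => ⟨h.1, h.2.2⟩)⟩
  have hD : AlgSt.RepByAlgSpWith IsProperMor (BasedFunctor.comp (FibCat.diag f) (weaken f f g)) :=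
    repByAlgSpWith_of_iso (diagCompIso f g).symm hh
  have hqu : AlgSt.RepByAlgSpWith IsUnivClosedMor (weaken f f g) :=
    of_precomp stableBC_isUnivClosedMor (stableBC_inf stableBC_isSurjectiveMor stableBC_isUnivClosedMor) hQl
      (fun hV hF hG c b hc hb => univClosed_cancel hV hF hG hc.1 hb)
      h𝒳.isStack.1 hfp.isStack.1 hw hQ (repByAlgSpWith_mono (fun _ _ _ h => h.2.2) hD)
  have hqs : AlgSt.RepByAlgSpWith IsSeparatedMor (weaken f f g) :=
    of_precomp stableBC_isSeparatedMor (stableBC_inf stableBC_isSurjectiveMor stableBC_isUnivClosedMor) hQl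
      (fun hV hF hG c b hc hb => separated_cancel hV hF hG hc.1 hc.2 hb)
      h𝒳.isStack.1 hfp.isStack.1 hw hQ (repByAlgSpWith_mono (fun _ _ _ h => h.1) hD)
  have sq : ∀ {R : MorphismProperty (Sp S)}, StableBC R → IsLocalOnBase IsFppfCover R →
      AlgSt.RepByAlgSpWith R (weaken f f g) → AlgSt.RepByAlgSpWith R (FibCat.diag g) := fun hRb hRl h =>
    repByAlgSpWith_of_locEssSurj hRb hRl hΔg (locEssSurj_pairMap g hes hes)
      ((repByAlgSpWith_iff_of_square (f' := weaken f f g) (f := FibCat.fpFst (pairMap f f g) (FibCat.diag g))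
        (a := diagComparison f f g) (b := BasedFunctor.id _) (diagComparison_isEquivOver f f g) isEquivOver_id
        (Iso.refl _)).2 h)
  have hu := sq stableBC_isUnivClosedMor (isLocalOnBase_fppf_of_fpqc isLocalOnBase_fpqc_isUnivClosedMor) hqu
  have hs := sq stableBC_isSeparatedMor isLocalOnBase_isSeparatedMor hqs
  refine repByAlgSpWith_mono_space (fun hF hG a ha => ?_)
    (repByAlgSpWith_and stableBC_locP (repByAlgSpWith_lft_diag h𝒴 h𝒵 g)
      (repByAlgSpWith_and stableBC_isUnivClosedMor hu hs))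
  exact ⟨ha.2.2, ⟨ha.1, Groth.Agent.AlgSpPts.isQuasiCompactMor_of_univClosed hF hG ha.2.1⟩, ha.2.1⟩

end Groth.Agent.SepDesc49
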